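import Groth.Agent.Lib.CentreMT25.Main
import Groth.Agent.Lib.TorPts21.Split
import Groth.Prelude.Def_AlphaP
import Groth.Prelude.Def_ConstGrp
import Mathlib.Algebra.Polynomial.Taylor

/-!
# No homomorphic copies of α_p or Z/p in groups of multiplicative type
-/

set_option autoImplicit false
set_option backward.isDefEq.respectTransparency false
set_option backward.isDefEq.respectTransparency.types false
set_option maxSynthPendingDepth 3
set_option linter.style.haveILetI false

universe u

open CategoryTheory MonoidalCategory CartesianMonoidalCategory AlgebraicGeometry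
open CategoryTheory.Limits
open scoped TensorProduct DualNumber MonObj
open Polynomial Coalgebra Groth.Agent.DiagGL

noncomputable section

namespace Groth.Agent.CentreChar32

/-- After every extension of scalars the only group-like element is 1. -/
def NoChars (k : Type u) [Field k] (B : Type u) [CommRing B] [Bialgebra k B] : Prop :=
  ∀ (K : Type u) [Field K] [Algebra k K] (u : K ⊗[k] B), IsGroupLikeElem K u → u = 1

theorem const_noChars (p : ℕ) [Fact p.Prime] (k : Type u) [Field k] [CharP k p] :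
    NoChars k (ConstGrp.F k (Multiplicative (ZMod p))) := by
  intro K _ _ w hw
  haveI : CharP K p := charP_of_injective_algebraMap (algebraMap k K).injective p
  let G := Multiplicative (ZMod p)
  let B := ConstGrp.F k G
  let ev : G → (K ⊗[k] B →ₐ[K] K) := fun g => Algebra.TensorProduct.lift (Algebra.ofId K K)
    ((Algebra.ofId k K).comp (ConstGrp.ev k g)) fun _ _ => .all _ _
  have hev : ∀ (g : G) (c : K) (f : B), ev g (c ⊗ₜ[k] f) = c * algebraMap k K (f g) := fun g c f => rfl
  have hmul : ∀ i j : G, (Algebra.TensorProduct.lift (ev i) (ev j) fun _ _ => .all _ _).comp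
      (Bialgebra.comulAlgHom K (K ⊗[k] B)) = ev (i * j) := by
    intro i j
    refine Algebra.TensorProduct.ext (Subsingleton.elim _ _) (ConstGrp.algHom_ext fun g => ?_)
    show Algebra.TensorProduct.lift (ev i) (ev j) (fun _ _ => .all _ _)
      (Coalgebra.comul (R := K) ((1 : K) ⊗ₜ[k] ConstGrp.e k g)) = ev (i * j) ((1 : K) ⊗ₜ[k] ConstGrp.e k g)
    rw [TensorProduct.comul_tmul, ConstGrp.comul_e, CommSemiring.comul_apply, TensorProduct.tmul_sum, map_sum,
      map_sum]
    simp only [TensorProduct.AlgebraTensorModule.tensorTensorTensorComm_tmul, Algebra.TensorProduct.lift_tmul, hev,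
      one_mul, ConstGrp.e_apply, apply_ite (algebraMap k K), map_one, map_zero]
    rw [Finset.sum_eq_single i (fun a _ ha => by rw [if_neg (Ne.symm ha), zero_mul])
      (fun h => absurd (Finset.mem_univ i) h), if_pos rfl, one_mul]
    exact if_congr eq_inv_mul_iff_mul_eq rfl rfl
  have h2 : ∀ i j : G, ev i w * ev j w = ev (i * j) w := fun i j => by
    rw [← hmul i j, AlgHom.comp_apply, Bialgebra.comulAlgHom_apply, hw.comul_eq_tmul_self,
      Algebra.TensorProduct.lift_tmul]
  have hsum : ∀ v : K ⊗[k] B, v = ∑ g : G, ev g v • ((1 : K) ⊗ₜ[k] ConstGrp.e k g) := fun v => by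
    induction v using TensorProduct.induction_on with
    | zero => simp
    | add a b ha hb => simp only [map_add, add_smul, Finset.sum_add_distrib]; rw [← ha, ← hb]
    | tmul c f =>
      simp only [hev, TensorProduct.smul_tmul', smul_eq_mul, mul_one]
      conv_lhs => rw [ConstGrp.eq_sum_smul_e f]
      rw [TensorProduct.tmul_sum]
      refine Finset.sum_congr rfl fun g _ => ?_
      rw [← TensorProduct.smul_tmul, Algebra.smul_def, mul_comm]
  have hne : ∃ g, ev g w ≠ 0 := by
    by_contra h
    push Not at h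
    have h0 : w = 0 := by rw [hsum w]; simp [h]
    have h1 := hw.counit_eq_one
    rw [h0, map_zero] at h1
    exact zero_ne_one h1
  have hone : ev 1 w = 1 := by
    obtain ⟨g, hg⟩ := hne
    exact mul_left_cancel₀ hg ((h2 g 1).trans (by rw [mul_one, mul_one]))
  let χ : G →* K := { toFun := fun g => ev g w, map_mul' := fun i j => (h2 i j).symm, map_one' := hone }
  have hχ : ∀ g, ev g w = 1 := fun g => by
    have hg : g ^ p = 1 := by
      have := pow_card_eq_one (G := G) (x := g)
      simpa [G] using this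
    refine frobenius_inj K p ?_
    rw [frobenius_def, map_one]
    exact (map_pow χ g p).symm.trans (by rw [hg, map_one])
  rw [hsum w]
  simp only [hχ, one_smul]
  rw [← TensorProduct.tmul_sum, ConstGrp.sum_e]
  rfl

theorem alpha_noChars (p : ℕ) [Fact p.Prime] (k : Type u) [Field k] [CharP k p] :
    NoChars k (AlphaP.A p k) := by
  intro K _ _ w hw
  haveI : CharP K p := charP_of_injective_algebraMap (algebraMap k K).injective p
  have hp2 : 2 ≤ p := (Fact.out : p.Prime).two_le
  let R := AlphaP.A p K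
  letI : Algebra k R := ((algebraMap K R).comp (algebraMap k K)).toAlgebra
  haveI : IsScalarTower k K R := IsScalarTower.of_algebraMap_eq fun _ => rfl
  let B := AlphaP.A p k
  let ψ : K ⊗[k] B →ₐ[K] R := Algebra.TensorProduct.lift (Algebra.ofId K R)
    (AlphaP.lift p k (AlphaP.x p K) (AlphaP.x_pow p K)) fun _ _ => .all _ _
  let χ : R →ₐ[K] K ⊗[k] B := AlphaP.lift p K ((1 : K) ⊗ₜ[k] AlphaP.x p k)
    (by rw [Algebra.TensorProduct.tmul_pow, AlphaP.x_pow, TensorProduct.tmul_zero])
  have hψx : ψ ((1 : K) ⊗ₜ[k] AlphaP.x p k) = AlphaP.x p K := by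
    simp [ψ, R, B]
  have hχψ : χ.comp ψ = AlgHom.id K _ := Algebra.TensorProduct.ext (Subsingleton.elim _ _) (AlphaP.algHom_ext
    (show χ (ψ ((1 : K) ⊗ₜ[k] AlphaP.x p k)) = _ by rw [hψx]; exact AlphaP.lift_x _ _))
  have hsq : (DualNumber.eps : DualNumber R) ^ 2 = 0 := by rw [pow_two]; exact DualNumber.eps_mul_eps
  have heps : (DualNumber.eps : DualNumber R) ^ p = 0 := pow_eq_zero_of_le hp2 hsq
  let inlR : R →ₐ[K] DualNumber R := TrivSqZeroExt.inlAlgHom K R R
  have hxp : (inlR (AlphaP.x p K)) ^ p = 0 := by rw [← map_pow, AlphaP.x_pow, map_zero]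
  let θ : R →ₐ[K] DualNumber R := AlphaP.lift p K (inlR (AlphaP.x p K) + DualNumber.eps)
    (AlphaP.add_pow_eq_zero p K (Commute.all _ _) hxp heps)
  let δ : K ⊗[k] B →ₐ[K] DualNumber R := (AlphaP.lift p K DualNumber.eps heps).comp ψ
  let L := Algebra.TensorProduct.lift (inlR.comp ψ) δ fun _ _ => .all _ _
  have hθ : L.comp (Bialgebra.comulAlgHom K (K ⊗[k] B)) = θ.comp ψ := by
    refine Algebra.TensorProduct.ext (Subsingleton.elim _ _) (AlphaP.algHom_ext ?_)
    show L (Coalgebra.comul (R := K) ((1 : K) ⊗ₜ[k] AlphaP.x p k)) = θ (ψ ((1 : K) ⊗ₜ[k] AlphaP.x p k))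
    rw [hψx, TensorProduct.comul_tmul, AlphaP.comul_x, CommSemiring.comul_apply, TensorProduct.tmul_add, map_add,
      map_add]
    simp only [TensorProduct.AlgebraTensorModule.tensorTensorTensorComm_tmul]
    simp only [L, δ, θ, Algebra.TensorProduct.lift_tmul,
      AlgHom.comp_apply, hψx, ← Algebra.TensorProduct.one_def, map_one, mul_one, one_mul]
    erw [hψx, AlphaP.lift_x, AlphaP.lift_x]
  obtain ⟨f₀, hf₀⟩ := AlphaP.mk_surjective p K (ψ w)
  let f := f₀ %ₘ ((X : K[X]) ^ p)
  have hf : AlphaP.mk p K f = ψ w := by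
    rw [← hf₀]
    conv_rhs => rw [← Polynomial.modByMonic_add_div f₀ ((X : K[X]) ^ p)]
    rw [map_add, map_mul, map_pow, AlphaP.mk_X, AlphaP.x_pow, zero_mul, add_zero]
  have hdeg : f.degree < (p : ℕ) := by
    have := Polynomial.degree_modByMonic_lt f₀ (Polynomial.monic_X_pow (R := K) p)
    rwa [Polynomial.degree_X_pow] at this
  have hkey : L (w ⊗ₜ[K] w) = θ (ψ w) := by
    rw [← hw.comul_eq_tmul_self]; exact DFunLike.congr_fun hθ w
  let c := f.coeff 1
  have e1 : θ (ψ w) = inlR (aeval (AlphaP.x p K) f) +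
      inlR (aeval (AlphaP.x p K) (derivative f)) * DualNumber.eps := by
    rw [← hf, ← AlphaP.aeval_x, ← Polynomial.aeval_algHom_apply, AlphaP.lift_x,
      Polynomial.aeval_add_of_sq_eq_zero _ _ _ hsq, Polynomial.aeval_algHom_apply, Polynomial.aeval_algHom_apply]
  have e2 : L (w ⊗ₜ[K] w) = inlR (ψ w) *
      (inlR (algebraMap K R (f.coeff 0)) + inlR (algebraMap K R (f.coeff 1)) * DualNumber.eps) := by
    show inlR (ψ w) * (AlphaP.lift p K DualNumber.eps heps) (ψ w) = _
    congr 1
    rw [← hf, ← AlphaP.aeval_x, ← Polynomial.aeval_algHom_apply, AlphaP.lift_x,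
      show (DualNumber.eps : DualNumber R) = 0 + DualNumber.eps from (zero_add _).symm,
      Polynomial.aeval_add_of_sq_eq_zero _ _ _ hsq, ← Polynomial.coeff_zero_eq_aeval_zero',
      ← Polynomial.coeff_zero_eq_aeval_zero', AlgHom.commutes, AlgHom.commutes, Polynomial.coeff_derivative]
    simp
  have h := congrArg TrivSqZeroExt.snd (e2.symm.trans (hkey.trans e1))
  simp [inlR, AlphaP.aeval_x, hf, TrivSqZeroExt.algebraMap_eq_inl'] at h
  have h1 : AlphaP.mk p K (derivative f) = AlphaP.mk p K (C c * f) := by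
    rw [map_mul, hf, ← Polynomial.algebraMap_eq, AlgHom.commutes, ← h]
    ring
  have h2 : derivative f = C c * f := by
    have hd : (derivative f - C c * f).degree < (p : ℕ) := by
      refine (Polynomial.degree_sub_le _ _).trans_lt (max_lt ((Polynomial.degree_derivative_le).trans_lt hdeg) ?_)
      rw [← Polynomial.smul_eq_C_mul]
      exact (Polynomial.degree_smul_le _ _).trans_lt hdeg
    have hdvd : ((X : K[X]) ^ p) ∣ derivative f - C c * f := AdjoinRoot.mk_eq_mk.1 h1
    exact sub_eq_zero.1 (Polynomial.eq_zero_of_dvd_of_degree_lt hdvd (by rwa [Polynomial.degree_X_pow]))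
  have hc : c = 0 := by
    by_contra hc
    by_cases hn : f.natDegree = 0
    · exact hc (Polynomial.coeff_eq_zero_of_natDegree_lt (by omega))
    · have := Polynomial.natDegree_derivative_lt hn
      rw [h2, Polynomial.natDegree_C_mul hc] at this
      exact lt_irrefl _ this
  have hconst : f = C (f.coeff 0) := by
    ext n
    rcases n with _ | n
    · simp
    · rw [Polynomial.coeff_C, if_neg n.succ_ne_zero]
      by_cases hn : n + 1 < p
      · have h := congrArg (fun q : K[X] => q.coeff n) h2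
        simp only [hc, map_zero, zero_mul, Polynomial.coeff_zero, Polynomial.coeff_derivative] at h
        refine (mul_eq_zero.1 h).resolve_right fun h' => ?_
        have h'' : ((n + 1 : ℕ) : K) = 0 := by exact_mod_cast h'
        exact absurd (Nat.le_of_dvd n.succ_pos ((CharP.cast_eq_zero_iff K p _).1 h'')) (by omega)
      · exact Polynomial.coeff_eq_zero_of_degree_lt (lt_of_lt_of_le hdeg (by exact_mod_cast not_lt.1 hn))
  have hw' : w = algebraMap K (K ⊗[k] B) (f.coeff 0) := by
    have : χ (ψ w) = w := DFunLike.congr_fun hχψ w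
    rw [← this, ← hf, hconst, ← Polynomial.algebraMap_eq, AlgHom.commutes, AlgHom.commutes]
    simp
  have h3 := hw.counit_eq_one
  rw [hw', Bialgebra.counit_algebraMap] at h3
  rw [hw', h3, map_one]

theorem not_mono_of_noChars {k : Type u} [Field k] {B : Type u} [CommRing B] [HopfAlgebra k B] (hB : NoChars k B)
    (hne : AlgHom.id k B ≠ (Algebra.ofId k B).comp (Bialgebra.counitAlgHom k B))
    {H : Over (Spec (CommRingCat.of k))} [GrpObj H] (hH : SGA3x.IsMultTypeFT H) (φ : CoactBr.sp k B ⟶ H) [IsMonHom φ] :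
    ¬ Mono φ := by
  intro hmono
  obtain ⟨A, _, _, -, -, ⟨e⟩⟩ := MTRigid29.exists_model_affine (MTRigid29.isMT_of_ft hH)
  obtain ⟨S', f, -, hfs, -, hloc⟩ := hH
  obtain ⟨s', -⟩ := hfs.surj (IsLocalRing.closedPoint k)
  obtain ⟨U, hsU, M, _, -, ⟨iso⟩⟩ := hloc s'
  let q0 : (U : Scheme.{u}) := ⟨s', hsU⟩
  let K := (U : Scheme.{u}).residueField q0
  let q : Spec (CommRingCat.of K) ⟶ Spec (CommRingCat.of k) := (U : Scheme.{u}).fromSpecResidueField q0 ≫ U.ι ≫ f
  letI : Algebra k K := (Spec.preimage q).hom.toAlgebra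
  have hq : Spec.map (CommRingCat.ofHom (algebraMap k K)) = q := Spec.map_preimage q
  have C : Nonempty (Chars M (Red.bc (Spec.map (CommRingCat.ofHom (algebraMap k K))) H)) := by
    rw [hq]
    exact ⟨MultAct19.charsComp _ _ (Chars.baseChange _ _ ((charsDS (U : Scheme.{u}) M).transport iso))⟩
  obtain ⟨C⟩ := C
  obtain ⟨E⟩ := MTRigid29.nonempty_bialgEquiv e C
  haveI : IsMonHom e.inv.hom.hom := e.inv.hom.isMonHom_hom
  let α := φ ≫ e.inv.hom.hom
  haveI : IsMonHom α := inferInstance
  obtain ⟨h, hh⟩ := MTRigid29.exists_bialgHom_of_monHom α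
  let H' : MonoidAlgebra K (Multiplicative M) →ₐc[K] K ⊗[k] B :=
    (Bialgebra.TensorProduct.map (BialgHom.id K K) h).comp E.symm.toBialgHom
  have hH' : (H' : MonoidAlgebra K (Multiplicative M) →ₐ[K] K ⊗[k] B) =
      (Algebra.ofId K _).comp (Bialgebra.counitAlgHom K _) := by
    refine MonoidAlgebra.algHom_ext (fun m => ?_) (AlgHom.ext fun r => (AlgHom.commutes _ r).trans (AlgHom.commutes _ r).symm)
    have h1 : IsGroupLikeElem K (MonoidAlgebra.single m (1 : K)) := MonoidAlgebra.isGroupLikeElem_single_one m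
    refine (hB K (H' (MonoidAlgebra.single m 1)) (h1.map H')).trans ?_
    simp [h1.counit_eq_one, Algebra.TensorProduct.one_def]
  have hcomp : (h : A →ₐ[k] B) = (Algebra.ofId k B).comp (Bialgebra.counitAlgHom k A) := by
    refine AlgHom.ext fun a => Algebra.TensorProduct.includeRight_injective (A := K) (algebraMap k K).injective ?_
    have h2 := DFunLike.congr_fun hH' (E ((1 : K) ⊗ₜ[k] a))
    have h3 : H' (E ((1 : K) ⊗ₜ[k] a)) = (1 : K) ⊗ₜ[k] h a := by
      show Bialgebra.TensorProduct.map (BialgHom.id K K) h (E.symm (E ((1 : K) ⊗ₜ[k] a))) = _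
      rw [BialgEquiv.symm_apply_apply]; rfl
    refine (h3.symm.trans h2).trans ?_
    simp [Algebra.ofId_apply, Algebra.TensorProduct.algebraMap_apply, TensorProduct.counit_tmul,
      Algebra.algebraMap_eq_smul_one, TensorProduct.smul_tmul, Algebra.TensorProduct.one_def]
  have hα : α = 1 := by rw [hh, hcomp, CoactBr.one_eq_pt]
  haveI : IsIso e.inv.hom.hom := ⟨e.hom.hom.hom, congrArg (fun t => t.hom.hom) e.inv_hom_id,
    congrArg (fun t => t.hom.hom) e.hom_inv_id⟩
  haveI : Mono α := mono_comp _ _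
  have h4 : 𝟙 (CoactBr.sp k B) = 1 := (cancel_mono α).1 (by rw [Category.id_comp, MonObj.one_comp, hα])
  rw [← CoactBr.pt_id, CoactBr.one_eq_pt] at h4
  exact hne (CoactBr.pt_injective h4)

theorem alpha_ne (p : ℕ) [Fact p.Prime] (k : Type u) [Field k] [CharP k p] :
    AlgHom.id k (AlphaP.A p k) ≠ (Algebra.ofId k _).comp (Bialgebra.counitAlgHom k (AlphaP.A p k)) := fun h => by
  have hp2 : 2 ≤ p := (Fact.out : p.Prime).two_le
  have h0 : AlphaP.x p k = 0 := by simpa using DFunLike.congr_fun h (AlphaP.x p k)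
  exact (AlphaP.basis p k).ne_zero ⟨1, hp2⟩ (by rw [AlphaP.basis_apply]; simpa using h0)

theorem const_ne (p : ℕ) [Fact p.Prime] (k : Type u) [Field k] [CharP k p] :
    AlgHom.id k (ConstGrp.F k (Multiplicative (ZMod p))) ≠
      (Algebra.ofId k _).comp (Bialgebra.counitAlgHom k (ConstGrp.F k (Multiplicative (ZMod p)))) := fun h => by
  have hne : (Multiplicative.ofAdd (1 : ZMod p)) ≠ 1 := by simp
  have hy := congrArg (fun F : ConstGrp.F k (Multiplicative (ZMod p)) => F (Multiplicative.ofAdd (1 : ZMod p)))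
    (DFunLike.congr_fun h (ConstGrp.e k (Multiplicative.ofAdd (1 : ZMod p))))
  simp [ConstGrp.e_apply, Ne.symm hne] at hy

end Groth.Agent.CentreChar32
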